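import Groth.Agent.H02CA.Adeq.Bc
import Groth.Agent.H02CA.Adeq.Change
import Groth.Agent.H02CA.Adeq.Coker
import Groth.Agent.H02CA.Adeq.Prod
import Groth.Agent.H02CA.Adeq.Family
import Mathlib.Algebra.Category.ModuleCat.Presheaf.EpiMono

/-!
Module valued functors commuting with base change ("linear"): they are the underlines.
-/

set_option autoImplicit false
set_option linter.style.haveILetI false
set_option backward.isDefEq.respectTransparency false

universe v w u

open CategoryTheory Opposite Limits TensorProduct

namespace Groth.Agent.H13BigSite.Lin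

open Adeq Groth.Agent.H02CA.Adq

variable {A : Type u} [CommRing A]

/-- All base change maps are isomorphisms. -/
def IsLin (F : MVF A) : Prop := ∀ ⦃B B' : Alg A⦄ (f : B ⟶ B'), IsIso (F.bc f)

lemma isLin_iff (F : MVF A) :
    IsLin F ↔ ∀ ⦃B B' : Alg A⦄ (f : B ⟶ B'),
      letI := homAlgebra f
      Function.Bijective (bcL f F) := by
  refine forall_congr' fun B => forall_congr' fun B' => forall_congr' fun f => ?_
  rw [ConcreteCategory.isIso_iff_bijective]
  exact Iff.of_eq (congrArg Function.Bijective (funext (bc_apply f F)))

/-- The base change maps as a natural transformation. -/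
noncomputable def bcNat {B B' : Alg A} (f : B ⟶ B') :
    ev B ⋙ ModuleCat.extendScalars.{u, u, u + 1} f.hom.toRingHom ⟶ ev B' where
  app F := F.bc f
  naturality F G φ := by
    letI := homAlgebra f
    refine ModuleCat.hom_ext (LinearMap.ext fun z => ?_)
    induction z using TensorProduct.induction_on with
    | zero => exact (map_zero _).trans (map_zero _).symm
    | tmul b x =>
      have hF := bc_apply f F (b ⊗ₜ x)
      have hG := bc_apply f G (b ⊗ₜ φ.app (pt B) x)
      rw [bcL_tmul] at hF hG
      refine hG.trans (Eq.trans ?_ (congrArg (φ.app (pt B')) hF).symm)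
      rw [map_smul, nat_mp]
    | add x y hx hy => exact (map_add _ x y).trans ((congrArg₂ (· + ·) hx hy).trans (map_add _ x y).symm)

instance preservesColimits_ev (B : Alg A) :
    PreservesColimitsOfSize.{u + 1, u + 1} (ev (A := A) B) :=
  PresheafOfModules.evaluation_preservesColimitsOfSize.{u + 1, u, u + 1, u + 1, u + 1, u} (ringOf A) (pt B)

lemma isLin_of_iso {F G : MVF A} (e : F ≅ G) (h : IsLin F) : IsLin G := by
  intro B B' f
  have := h f
  have : IsIso ((bcNat f).app F) := h f
  exact (NatTrans.isIso_app_iff_of_iso (bcNat f) e).1 this

lemma isLin_U (M : ModuleCat.{u + 1} A) : IsLin (U A M) :=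
  (isLin_iff _).2 fun _ _ f => bcL_U_bijective f M

/-- Colimits of linear functors are linear. -/
theorem isLin_of_isColimit {J : Type w} [Category.{v} J] [∀ B : Alg A, PreservesColimitsOfShape J (ev B)]
    {D : J ⥤ MVF A} {c : Cocone D}
    (hc : IsColimit c) (h : ∀ j, IsLin (D.obj j)) : IsLin c.pt := by
  intro B B' f
  have hP : PreservesColimitsOfSize.{v, w} (ModuleCat.extendScalars.{u, u, u + 1} f.hom.toRingHom) :=
    Adjunction.leftAdjoint_preservesColimits.{v, w}
      (ModuleCat.extendRestrictScalarsAdj.{u + 1, u, u} f.hom.toRingHom)
  have : ∀ j, IsIso ((Functor.whiskerLeft D (bcNat f)).app j) := fun j => h j f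
  have : IsIso (Functor.whiskerLeft D (bcNat f)) := NatIso.isIso_of_isIso_app _
  have h1 : PreservesColimit (D ⋙ ev B) (ModuleCat.extendScalars.{u, u, u + 1} f.hom.toRingHom) :=
    (hP.preservesColimitsOfShape (J := J)).preservesColimit
  have h2 : PreservesColimit D (ev B ⋙ ModuleCat.extendScalars.{u, u, u + 1} f.hom.toRingHom) :=
    letI := h1
    comp_preservesColimit (K := D) (ev B) _
  have h3 : PreservesColimit D (ev B') := PreservesColimitsOfShape.preservesColimit
  exact @isIso_app_coconePt_of_preservesColimit _ _ _ _ _ _ D _ _ (bcNat f) this c hc h2 h3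

/-- The module of values at the ring. -/
noncomputable abbrev base (F : MVF A) : ModuleCat.{u + 1} A := ModuleCat.of A (F.obj (pt (algOf A A)))

/-- The canonical map from the underline. -/
noncomputable def cou (F : MVF A) : U A (base F) ⟶ F :=
  PresheafOfModules.homMk
    { app X := AddCommGrpCat.ofHom
        (TensorProduct.liftAddHom
          (AddMonoidHom.mk' (fun b : (X.unop.unop : Type u) =>
            AddMonoidHom.mk' (fun x : base F => b • mp F (ofIdHom X.unop.unop) x)
              (fun x y => by rw [map_add, smul_add]))
            (fun b c => AddMonoidHom.ext fun x => add_smul b c (mp F (ofIdHom X.unop.unop) x)))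
          (fun r b x => by
            change (r • b) • mp F (ofIdHom X.unop.unop) x = b • mp F (ofIdHom X.unop.unop) (r • x)
            rw [mp_smul, smul_smul]
            refine congrArg (fun s : (X.unop.unop : Type u) => s • mp F (ofIdHom X.unop.unop) x) ?_
            rw [mul_comm, Algebra.smul_def]
            rfl))
      naturality {X Y} g := by
        ext z
        induction z using TensorProduct.induction_on with
        | zero => simp
        | tmul b x =>
          change g.unop.unop.hom b • mp F (ofIdHom Y.unop.unop) x =
            mp F g.unop.unop (b • mp F (ofIdHom X.unop.unop) x)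
          rw [mp_smul, ← mp_comp, hom_ext_ofId (ofIdHom X.unop.unop ≫ g.unop.unop)]
        | add x y hx hy => simp only [map_add, hx, hy] }
    (by
      intro X r z
      induction z using TensorProduct.induction_on with
      | zero => simp only [smul_zero, map_zero]
      | tmul b x =>
        change (r * b) • mp F (ofIdHom X.unop.unop) x = r • b • mp F (ofIdHom X.unop.unop) x
        rw [mul_smul]
      | add x y hx hy => simp only [smul_add, map_add, hx, hy])

lemma cou_base_bijective (F : MVF A) : Function.Bijective ((cou F).app (pt (algOf A A))) := by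
  have e : ∀ z : (A : Type u) ⊗[A] base F,
      ((cou F).app (pt (algOf A A)) (tmk (base F) (algOf A A) z) : base F) = TensorProduct.lid A (base F) z := by
    intro z
    induction z using TensorProduct.induction_on with
    | zero => exact (map_zero ((cou F).app (pt (algOf A A))).hom).trans (map_zero _).symm
    | tmul b x =>
      rw [TensorProduct.lid_tmul]
      change b • mp F (ofIdHom (algOf A A)) x = b • x
      rw [hom_ext_ofId (ofIdHom (algOf A A)) (𝟙 _), mp_id]
    | add x y hx hy =>
      rw [map_add]
      exact (map_add ((cou F).app (pt (algOf A A))).hom _ _).trans (congrArg₂ (· + ·) hx hy)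
  exact (funext e : ((cou F).app (pt (algOf A A)) : _ → _) = TensorProduct.lid A (base F)) ▸
    (TensorProduct.lid A (base F)).bijective

theorem isIso_cou {F : MVF A} (h : IsLin F) : IsIso (cou F) := by
  refine isIso_of_bijective _ fun B => ?_
  let f := ofIdHom B
  letI := homAlgebra f
  let l : (U A (base F)).obj (pt (algOf A A)) →ₗ[A] F.obj (pt (algOf A A)) := ((cou F).app (pt (algOf A A))).hom
  have hl : Function.Bijective (LinearMap.lTensor (B : Type u) l) :=
    (LinearEquiv.lTensor (B : Type u) (LinearEquiv.ofBijective l (cou_base_bijective F))).bijective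
  have hc : (cou F).app (pt B) ∘ bcL f (U A (base F)) = bcL f F ∘ LinearMap.lTensor (B : Type u) l :=
    funext fun z => bcL_natural f (cou F) z
  have := ((isLin_iff F).1 h f).comp hl
  rw [← hc] at this
  exact (Function.Bijective.of_comp_iff _ (bcL_U_bijective f (base F))).1 this

theorem adequate_of_isLin {F : MVF A} (h : IsLin F) : adequate A F :=
  haveI := isIso_cou h
  (adequate A).prop_of_iso (asIso (cou F)) (adequate_underline _)

variable (A) (A' : Type u) [CommRing A'] [Algebra A A']

theorem isLin_restr {F : MVF A} (h : IsLin F) : IsLin ((Adeq.restr A A').obj F) := by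
  rw [isLin_iff] at h ⊢
  intro B B' f
  exact h ((Adeq.Alg.restr A A').map f)

theorem isLin_push {F : MVF A'} (h : IsLin F) : IsLin ((Adeq.push A A').obj F) :=
  haveI := isIso_cou h
  haveI := isIso_pushU A A' (base F)
  isLin_of_iso (asIso (pushU A A' (base F)) ≪≫ (Adeq.push A A').mapIso (asIso (cou F))) (isLin_U _)

end Groth.Agent.H13BigSite.Lin
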