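import Groth.Agent.H13BigSite.Lin.Basic

/-!
Linearity descends along a faithfully flat family for adequate functors.
-/

set_option autoImplicit false
set_option linter.style.haveILetI false
set_option backward.isDefEq.respectTransparency false

universe w u

open CategoryTheory Opposite Limits TensorProduct

namespace Groth.Agent.H13BigSite.Lin

open Adeq Groth.Agent.H02CA.Adq

variable {A : Type u} [CommRing A]

/-- The base change maps compose. -/
lemma bcL_comp (F : MVF A) {B B' B'' : Alg A} (f : B ⟶ B') (g : B' ⟶ B'') :
    letI := homAlgebra f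
    letI := homAlgebra g
    letI := homAlgebra (f ≫ g)
    haveI : IsScalarTower (B : Type u) (B' : Type u) (B'' : Type u) :=
      IsScalarTower.of_algebraMap_eq fun _ => rfl
    ∀ w : (B'' : Type u) ⊗[(B' : Type u)] ((B' : Type u) ⊗[(B : Type u)] F.obj (pt B)),
      bcL g F (LinearMap.lTensor (B'' : Type u) (bcL f F) w) =
        bcL (f ≫ g) F (TensorProduct.AlgebraTensorModule.cancelBaseChange
          (B : Type u) (B' : Type u) (B'' : Type u) (B'' : Type u) (F.obj (pt B)) w) := by
  letI := homAlgebra f
  letI := homAlgebra g
  letI := homAlgebra (f ≫ g)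
  haveI : IsScalarTower (B : Type u) (B' : Type u) (B'' : Type u) :=
    IsScalarTower.of_algebraMap_eq fun _ => rfl
  intro w
  induction w using TensorProduct.induction_on with
  | zero => simp only [map_zero]
  | tmul c y =>
    induction y using TensorProduct.induction_on with
    | zero => simp only [TensorProduct.tmul_zero, map_zero]
    | tmul b x =>
      rw [TensorProduct.AlgebraTensorModule.cancelBaseChange_tmul, LinearMap.lTensor_tmul, bcL_tmul,
        bcL_tmul, bcL_tmul, mp_smul, mp_comp, smul_smul, Algebra.smul_def]
      congr 1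
      exact mul_comm _ _
    | add y y' hy hy' => simp only [TensorProduct.tmul_add, map_add, hy, hy']
  | add y y' hy hy' => simp only [map_add, hy, hy']

lemma comp_bijective {F : MVF A} {B B' B'' : Alg A} (f : B ⟶ B') (g : B' ⟶ B'')
    (hf : letI := homAlgebra f; Function.Bijective (bcL f F))
    (hg : letI := homAlgebra g; Function.Bijective (bcL g F)) :
    letI := homAlgebra (f ≫ g)
    Function.Bijective (bcL (f ≫ g) F) := by
  letI := homAlgebra f
  letI := homAlgebra g
  letI := homAlgebra (f ≫ g)
  haveI : IsScalarTower (B : Type u) (B' : Type u) (B'' : Type u) :=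
    IsScalarTower.of_algebraMap_eq fun _ => rfl
  have h := hg.comp (LinearEquiv.lTensor (B'' : Type u) (LinearEquiv.ofBijective (bcL f F) hf)).bijective
  refine (Function.Bijective.of_comp_iff _ (TensorProduct.AlgebraTensorModule.cancelBaseChange
    (B : Type u) (B' : Type u) (B'' : Type u) (B'' : Type u) (F.obj (pt B))).bijective).1 ?_
  convert! h using 1
  exact (funext fun w => (bcL_comp F f g w).symm)

lemma lTensor_bijective {F : MVF A} {B B' B'' : Alg A} (f : B ⟶ B') (g : B' ⟶ B'')
    (hfg : letI := homAlgebra (f ≫ g); Function.Bijective (bcL (f ≫ g) F))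
    (hg : letI := homAlgebra g; Function.Bijective (bcL g F)) :
    letI := homAlgebra f
    letI := homAlgebra g
    Function.Bijective (LinearMap.lTensor (B'' : Type u) (bcL f F)) := by
  letI := homAlgebra f
  letI := homAlgebra g
  letI := homAlgebra (f ≫ g)
  haveI : IsScalarTower (B : Type u) (B' : Type u) (B'' : Type u) :=
    IsScalarTower.of_algebraMap_eq fun _ => rfl
  refine (Function.Bijective.of_comp_iff' hg _).1 ?_
  have h := hfg.comp (TensorProduct.AlgebraTensorModule.cancelBaseChange
    (B : Type u) (B' : Type u) (B'' : Type u) (B'' : Type u) (F.obj (pt B))).bijective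
  convert! h using 1
  exact funext (bcL_comp F f g)

lemma flat_bunit (C : Type u) [CommRing C] [Algebra A C] [Module.Flat A C] (B : Alg A) :
    (bunit C B).hom.toRingHom.Flat := by
  have h : (algebraMap (B : Type u) ((B : Type u) ⊗[A] C)).Flat :=
    RingHom.flat_algebraMap_iff.2 inferInstance
  have e : (bunit C B).hom.toRingHom =
      (Algebra.TensorProduct.comm A (B : Type u) C).toRingEquiv.toRingHom.comp
        (algebraMap (B : Type u) ((B : Type u) ⊗[A] C)) := by
    ext b
    rfl
  rw [e]
  exact h.comp (RingHom.Flat.of_bijective (Algebra.TensorProduct.comm A (B : Type u) C).bijective)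

/-- An element killed in every base change of a faithfully flat family vanishes. -/
lemma eq_zero_of_family {ι : Type} [Finite ι] (C : ι → Type u) [∀ j, CommRing (C j)]
    [∀ j, Algebra A (C j)] [Module.FaithfullyFlat A (∀ j, C j)] (B : Alg A) {M : Type (u + 1)}
    [AddCommGroup M] [Module (B : Type u) M] (z : M)
    (h : ∀ j, letI := homAlgebra (bunit (C j) B);
      (1 : (bcr (C j) B : Type u)) ⊗ₜ[(B : Type u)] z = 0) : z = 0 := by
  classical
  haveI := Fintype.ofFinite ι
  letI : Module A M := Module.compHom M (algebraMap A (B : Type u))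
  haveI : IsScalarTower A (B : Type u) M := IsScalarTower.of_algebraMap_smul fun _ _ => rfl
  have h' : ∀ j, (1 : C j) ⊗ₜ[A] z = 0 := by
    intro j
    letI := homAlgebra (bunit (C j) B)
    let ψ : M → (C j ⊗[A] (B : Type u) →ₗ[A] C j ⊗[A] M) := fun m =>
      LinearMap.lTensor (C j) ((LinearMap.toSpanSingleton (B : Type u) M m).restrictScalars A)
    let Φ : (bcr (C j) B : Type u) ⊗[(B : Type u)] M →+ C j ⊗[A] M :=
      TensorProduct.liftAddHom
        (AddMonoidHom.mk' (fun n : (bcr (C j) B : Type u) =>
          AddMonoidHom.mk' (fun m => ψ m n) (fun m m' => by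
            have e : ((LinearMap.toSpanSingleton (B : Type u) M (m + m')).restrictScalars A) =
              (LinearMap.toSpanSingleton (B : Type u) M m).restrictScalars A +
                (LinearMap.toSpanSingleton (B : Type u) M m').restrictScalars A := by
              ext b; exact smul_add b m m'
            change LinearMap.lTensor (C j) _ n = LinearMap.lTensor (C j) _ n + LinearMap.lTensor (C j) _ n
            rw [e, LinearMap.lTensor_add]
            rfl))
          (fun n n' => AddMonoidHom.ext fun m => map_add (ψ m) n n'))
        (fun r n m => by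
          change ψ m (((1 : C j) ⊗ₜ[A] r) * (show C j ⊗[A] (B : Type u) from n)) =
            ψ (r • m) (show C j ⊗[A] (B : Type u) from n)
          generalize (show C j ⊗[A] (B : Type u) from n) = n'
          induction n' using TensorProduct.induction_on with
          | zero => rw [mul_zero, map_zero, map_zero]
          | tmul c b =>
            rw [Algebra.TensorProduct.tmul_mul_tmul, one_mul]
            simp only [ψ, LinearMap.lTensor_tmul, LinearMap.coe_restrictScalars, LinearMap.toSpanSingleton_apply]
            rw [mul_comm, mul_smul]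
          | add x y hx hy => rw [mul_add, map_add, map_add, hx, hy])
    have e := congrArg Φ (h j)
    rw [map_zero] at e
    change (1 : C j) ⊗ₜ[A] ((1 : (B : Type u)) • z) = 0 at e
    rwa [one_smul] at e
  have h1 : (1 : ∀ j, C j) ⊗ₜ[A] z = 0 := by
    apply (TensorProduct.piLeft (R := A) (M := C) (N := M)).injective
    rw [map_zero]
    funext j
    simpa using h' j
  exact Module.FaithfullyFlat.tensorProduct_mk_injective (A := A) (B := ∀ j, C j) M
    (h1.trans (TensorProduct.tmul_zero M _).symm)

/-- Linearity descends. -/
theorem isLin_of_family {F : MVF A} (hF : adequate A F) {ι : Type} [Finite ι] (C : ι → Type u)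
    [∀ j, CommRing (C j)] [∀ j, Algebra A (C j)] [∀ j, Module.Flat A (C j)]
    [Module.FaithfullyFlat A (∀ j, C j)] (h : ∀ j, IsLin ((Adeq.restr A (C j)).obj F)) : IsLin F := by
  rw [isLin_iff]
  intro B B' f
  letI := homAlgebra f
  let φ := bcL f F
  have hb : ∀ j, letI := homAlgebra (bunit (C j) B');
      Function.Bijective (LinearMap.lTensor (bcr (C j) B' : Type u) φ) := fun j => by
    refine lTensor_bijective f (bunit (C j) B') ?_ (bcL_bijective _ hF (flat_bunit (C j) B'))
    rw [bunit_natural]
    exact comp_bijective _ _ (bcL_bijective _ hF (flat_bunit (C j) B))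
      ((isLin_iff _).1 (h j) ((Adeq.Alg.baseChange A (C j)).map f))
  refine ⟨(injective_iff_map_eq_zero φ).2 fun z hz => ?_, fun y => ?_⟩
  · refine eq_zero_of_family C B' z fun j => ?_
    letI := homAlgebra (bunit (C j) B')
    refine (injective_iff_map_eq_zero _).1 (hb j).1 _ ?_
    rw [LinearMap.lTensor_tmul, hz, TensorProduct.tmul_zero]
  · have : (Submodule.Quotient.mk y : _ ⧸ LinearMap.range φ) = 0 := by
      refine eq_zero_of_family C B' _ fun j => ?_
      letI := homAlgebra (bunit (C j) B')
      obtain ⟨w, hw⟩ := (hb j).2 ((1 : (bcr (C j) B' : Type u)) ⊗ₜ[(B' : Type u)] y)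
      have e : (LinearMap.range φ).mkQ ∘ₗ φ = 0 := LinearMap.range_mkQ_comp φ
      have := congrArg (LinearMap.lTensor (bcr (C j) B' : Type u) (LinearMap.range φ).mkQ) hw
      rw [← LinearMap.lTensor_comp_apply, e, LinearMap.lTensor_zero] at this
      exact this.symm
    exact (Submodule.Quotient.mk_eq_zero _).1 this

end Groth.Agent.H13BigSite.Lin
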