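import Groth.Agent.H13BigSite.Lin.Sheaf
import Groth.Agent.H02CA.Adeq.Push.Pushforward

/-!
Linear modules over affine schemes have presentations; linearity of direct images along affine morphisms.
-/

set_option autoImplicit false
set_option linter.style.haveILetI false
set_option backward.isDefEq.respectTransparency false

universe v w u

open CategoryTheory Opposite Limits TensorProduct AlgebraicGeometry

noncomputable section

namespace Groth.Agent.H13BigSite.Lin

open Adeq Groth.Agent.H02CA.Adq

variable {P : MorphismProperty Scheme.{u}} [GoodCov P] [BigSite.OSh (Scheme.precoverage P)]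

section Affine

variable {R : CommRingCat.{u}}

local notation "𝒦" => Scheme.precoverage P

variable (R) in
/-- The final object, as the object of the algebra. -/
def baseTerminal : IsTerminal (baseObj (R := R) (𝟙 (Spec R))) :=
  Over.mkIdTerminal.ofIso (overIso (S := Spec R) _ _
    ((Spec.map_id R).symm.trans (Category.comp_id _).symm))

/-- The functor of a module at the whole scheme. -/
abbrev Fbase (M : BigSite.Mod 𝒦 (Spec R)) : MVF R := FModPre 𝒦 (𝟙 (Spec R)) M.val

lemma tr_from (M : BigSite.Mod 𝒦 (Spec R)) (x : M.val.obj (op (baseObj (R := R) (𝟙 (Spec R))))) :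
    tr M.val ((baseTerminal R).from (baseObj (R := R) (𝟙 (Spec R)))) x = x := by
  rw [(baseTerminal R).hom_ext ((baseTerminal R).from _) (𝟙 _)]
  exact congr($(M.val.presheaf.map_id _) x)

/-- Values at affine objects are spanned by global ones. -/
def Spanned (M : BigSite.Mod 𝒦 (Spec R)) : Prop :=
  ∀ B : Alg R, letI := homAlgebra (ofIdHom B); Function.Surjective (bcL (ofIdHom B) (Fbase M))

/-- The section with a given global value. -/
def secOf (M : BigSite.Mod 𝒦 (Spec R)) (x : M.val.obj (op (baseObj (R := R) (𝟙 (Spec R))))) : M.sections :=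
  PresheafOfModules.sectionsMk (fun V => tr M.val ((baseTerminal R).from V.unop) x) (fun {V W} g => by
    refine (tr_comp M.val g.unop ((baseTerminal R).from V.unop) x).trans ?_
    rw [(baseTerminal R).hom_ext (g.unop ≫ (baseTerminal R).from V.unop) ((baseTerminal R).from W.unop)])

lemma eq_zero_of_spanned {M Z : BigSite.Mod 𝒦 (Spec R)} (hM : Spanned M) (h : M ⟶ Z)
    (h0 : ∀ x, h.val.app (op (baseObj (R := R) (𝟙 (Spec R)))) x = 0) : h = 0 := by
  let φ := FModPreMap 𝒦 (𝟙 (Spec R)) h.val
  have hB : ∀ (B : Alg R) (x : M.val.obj (op ((specOver (𝟙 (Spec R))).obj (op B)))),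
      h.val.app (op ((specOver (𝟙 (Spec R))).obj (op B))) x = 0 := by
    intro B x
    letI := homAlgebra (ofIdHom B)
    obtain ⟨z, rfl⟩ := hM B x
    refine (bcL_natural (ofIdHom B) φ z).trans ?_
    have e : ((φ.app (pt (algOf R R))).hom :
        (Fbase M).obj (pt (algOf R R)) →ₗ[R] (Fbase Z).obj (pt (algOf R R))) = 0 :=
      LinearMap.ext fun y => h0 y
    erw [e]
    rw [LinearMap.lTensor_zero]
    exact map_zero _
  ext V x
  let 𝒰 : V.unop.left.affineOpens → Over (Spec R) := fun U => Over.mk (U.2.fromSpec ≫ V.unop.hom)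
  let g : ∀ U, 𝒰 U ⟶ V.unop := fun U => Over.homMk U.2.fromSpec rfl
  refine eq_of_locally Z (ofArrows_mem_J g (fun U => U.2.isOpenImmersion_fromSpec) fun p => ?_) _ _ ?_
  · obtain ⟨_, ⟨U, hU, rfl⟩, hpU, -⟩ := V.unop.left.isBasis_affineOpens.exists_subset_of_mem_open
      (Set.mem_univ p) isOpen_univ
    refine ⟨⟨U, hU⟩, ?_⟩
    change p ∈ Set.range hU.fromSpec
    rw [hU.range_fromSpec]
    exact hpU
  · rintro W f ⟨_, l, _, ⟨U⟩, rfl⟩
    letI : Algebra R Γ(V.unop.left, U.1) := (Spec.preimage (U.2.fromSpec ≫ V.unop.hom)).hom.toAlgebra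
    let e : (specOver (𝟙 (Spec R))).obj (op (algOf R Γ(V.unop.left, U.1))) ≅ 𝒰 U :=
      overIso _ _ ((Category.comp_id _).trans (Spec.map_preimage _))
    rw [← tr_comp, ← tr_comp, ← app_tr h.val (g U)]
    refine congrArg (tr Z.val l) ?_
    refine (tr_iso_bijective Z.val e).1 ?_
    rw [← app_tr h.val e.hom, hB]
    exact ((congrArg (tr Z.val e.hom) (map_zero _)).trans (map_zero _)).symm

/-- Global values give generating sections. -/
def genOfSpanned (M : BigSite.Mod 𝒦 (Spec R)) (hM : Spanned M) : M.GeneratingSections where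
  I := M.val.obj (op (baseObj (R := R) (𝟙 (Spec R))))
  s := secOf M
  epi := by
    refine Preadditive.epi_of_cancel_zero _ fun {Z} h w => ?_
    refine eq_zero_of_spanned hM h fun x => ?_
    have e := SheafOfModules.sectionsMap_freeHomEquiv_symm_freeSection (secOf M) x
    have e' := congrArg (fun q : _ ⟶ Z => SheafOfModules.sectionsMap q (SheafOfModules.freeSection x)) w
    simp only [SheafOfModules.sectionsMap_comp] at e'
    rw [e] at e'
    have e'' := congrArg (fun t : Z.sections => t.1 (op (baseObj (R := R) (𝟙 (Spec R))))) e'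
    have hx := tr_from M x
    refine (congrArg (h.val.app (op (baseObj (R := R) (𝟙 (Spec R))))) hx).symm.trans ?_
    exact e''

variable (hflat : ∀ {X Y : Scheme.{u}} (f : X ⟶ Y), P f → Flat f)
include hflat

/-- A module linear at the whole affine scheme has a presentation. -/
theorem nonempty_presentation (M : BigSite.Mod 𝒦 (Spec R)) (hM : IsLin (Fbase M)) :
    Nonempty M.Presentation := by
  have hs : Spanned M := fun B => ((isLin_iff _).1 hM (ofIdHom B)).2
  let σ := genOfSpanned M hs
  let π := σ.π
  let F := SheafOfModules.free (R := BigSite.ORing 𝒦 (Spec R)) σ.I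
  have hF : IsLin (Fbase F) := allLin_free hflat σ.I R (𝟙 _)
  let ι' := FModPreMap 𝒦 (𝟙 (Spec R)) (kernel.ι π).val
  let ψ := FModPreMap 𝒦 (𝟙 (Spec R)) π.val
  have hψ : Function.Surjective (ψ.app (pt (algOf R R))) := by
    intro x
    refine ⟨(SheafOfModules.freeSection (R := BigSite.ORing 𝒦 (Spec R)) (I := σ.I) x).1
      (op (baseObj (R := R) (𝟙 (Spec R)))), ?_⟩
    have e := congrArg (fun t : M.sections => t.1 (op (baseObj (R := R) (𝟙 (Spec R)))))
      (SheafOfModules.sectionsMap_freeHomEquiv_symm_freeSection σ.s x)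
    exact e.trans (tr_from M x)
  have hex : ∀ (B : Alg R), Function.Exact (ι'.app (pt B)) (ψ.app (pt B)) := fun B x =>
    ⟨fun hx => by
      have hS : (ShortComplex.mk (kernel.ι π) π (kernel.condition π)).Exact :=
        ShortComplex.exact_of_f_is_kernel _ (kernelIsKernel π)
      haveI : Mono (ShortComplex.mk (kernel.ι π) π (kernel.condition π)).f := inferInstanceAs (Mono (kernel.ι π))
      exact (ShortComplex.moduleCat_exact_iff _).1
        (hS.map_of_mono_of_preservesKernel (SheafOfModules.forget _ ⋙
          PresheafOfModules.evaluation _ (op ((specOver (𝟙 (Spec R))).obj (op B)))) inferInstance inferInstance) x hx,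
     by
      rintro ⟨y, rfl⟩
      exact congrArg (fun q : kernel π ⟶ M => q.val.app (op ((specOver (𝟙 (Spec R))).obj (op B))) y)
        (kernel.condition π)⟩
  have hi : ∀ B : Alg R, Function.Injective (ι'.app (pt B)) := fun B => by
    have hm : Mono ((SheafOfModules.forget _ ⋙
        PresheafOfModules.evaluation _ (op ((specOver (𝟙 (Spec R))).obj (op B)))).map (kernel.ι π)) := inferInstance
    exact fun x y h => (ModuleCat.mono_iff_injective _).1 hm h
  have hK : Spanned (kernel π) := by
    intro B
    letI := homAlgebra (ofIdHom B)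
    intro k
    obtain ⟨z, hz⟩ := ((isLin_iff _).1 hF (ofIdHom B)).2 (ι'.app (pt B) k)
    let l₁ : (Fbase (kernel π)).obj (pt (algOf R R)) →ₗ[R] (Fbase F).obj (pt (algOf R R)) :=
      (ι'.app (pt (algOf R R))).hom
    let l₂ : (Fbase F).obj (pt (algOf R R)) →ₗ[R] (Fbase M).obj (pt (algOf R R)) :=
      (ψ.app (pt (algOf R R))).hom
    have h2 : LinearMap.lTensor (B : Type u) l₂ z = 0 := by
      apply ((isLin_iff _).1 hM (ofIdHom B)).1
      rw [map_zero]
      refine (bcL_natural (ofIdHom B) ψ z).symm.trans ?_
      rw [hz]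
      exact (hex B _).2 ⟨k, rfl⟩
    obtain ⟨w, hw⟩ := (lTensor_exact (B : Type u) (f := l₁) (g := l₂) (hex (algOf R R)) hψ z).1 h2
    refine ⟨w, hi B ?_⟩
    refine (bcL_natural (ofIdHom B) ι' w).trans ?_
    rw [← hz, ← hw]
  exact ⟨⟨σ, genOfSpanned _ hK⟩⟩

end Affine

section Push

variable {X S : Scheme.{u}}

/-- Direct images along affine morphisms are linear. -/
theorem allLin_pushMod (g : X ⟶ S) [IsAffineHom g] (M : BigSite.Mod (Scheme.precoverage P) X) (hM : AllLin M) :
    AllLin ((BigSite.pushMod (Scheme.precoverage P) g).obj M) := by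
  intro R a
  haveI : IsAffine (pullback a g) := isAffine_of_isAffineHom (pullback.fst a g)
  let A : CommRingCat.{u} := Γ(pullback a g, ⊤)
  let w : Spec A ⟶ pullback a g := (pullback a g).isoSpec.inv
  letI : Algebra R A := (Spec.preimage (w ≫ pullback.fst a g)).hom.toAlgebra
  have hw : w ≫ pullback.fst a g = algMap' R A := (Spec.map_preimage _).symm
  let b : Spec (CommRingCat.of A) ⟶ X := w ≫ pullback.snd a g
  let K := Scheme.precoverage P
  let i₁ : (Adeq.push R A).obj (FModPre (R := CommRingCat.of A) K b M.val) ⟶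
      (chartFam (R := R) A b).gmod M.val :=
    PresheafOfModules.homMk
      { app := fun B => AddCommGrpCat.ofHom
          { toFun := fun x => x
            map_zero' := rfl
            map_add' := fun _ _ => rfl }
        naturality := fun {B B'} g => rfl }
      (fun B r x => by
        change (show (BigSite.ORing K X).obj.obj (op ((chartFam (R := R) A b).X.obj (op B.unop.unop))) from
            toSect (R := CommRingCat.of A) K b ((Adeq.Alg.baseChange R A).obj B.unop.unop)
            ((1 : A) ⊗ₜ[R] (show (B.unop.unop : Type u) from r))) • (show M.val.obj (op ((chartFam (R := R) A b).X.obj (op B.unop.unop))) from x) =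
          (chartFam (R := R) A b).scal (K := K) B.unop.unop r • (show M.val.obj (op ((chartFam (R := R) A b).X.obj (op B.unop.unop))) from x)
        congr 1
        apply ULift.ext
        change _ = (gam (Spec.map (CommRingCat.ofHom
          (Algebra.TensorProduct.includeRight (R := R) (A := A) (B := (B.unop.unop : Type u))).toRingHom)))
            (show (B.unop.unop : Type u) from r)
        rw [gam_Spec_map]
        rfl)
  haveI : IsIso i₁ := isIso_of_bijective _ fun B => ⟨fun x y h => h, fun y => ⟨y, rfl⟩⟩
  let i₂ : (pullFam g a).gmod M.val ⟶ FModPre K a ((BigSite.pushMod K g).obj M).val :=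
    PresheafOfModules.homMk
      { app := fun B => AddCommGrpCat.ofHom
          { toFun := fun x => x
            map_zero' := rfl
            map_add' := fun _ _ => rfl }
        naturality := fun {B B'} g => rfl }
      (fun B r x => by
        change (pullFam g a).scal (K := K) B.unop.unop r • (show M.val.obj (op ((pullFam g a).X.obj (op B.unop.unop))) from x) =
          (show (BigSite.ORing K X).obj.obj (op ((pullFam g a).X.obj (op B.unop.unop))) from
            (BigSite.ORingAbs K).obj.map (pullback.fst ((specOver a).obj (op B.unop.unop)).hom g).op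
              (toSect K a B.unop.unop r)) • (show M.val.obj (op ((pullFam g a).X.obj (op B.unop.unop))) from x)
        rfl)
  haveI : IsIso i₂ := isIso_of_bijective _ fun B => ⟨fun x y h => h, fun y => ⟨y, rfl⟩⟩
  let i₃ : (pullFam g a).gmod M.val ⟶ (chartFam (R := R) A b).gmod M.val :=
    TFam.gmap M.val (chartMap g a A w hw) (chartMap_fst g a A w hw)
  haveI : IsIso i₃ := by
    refine isIso_of_bijective _ fun B => ?_
    haveI : IsIso ((chartMap g a A w hw).app (op B)).left :=
      MorphismProperty.of_isPullback (P := MorphismProperty.isomorphisms Scheme.{u})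
        (isPullback_chartMap g a A w hw B).flip (inferInstanceAs (IsIso w))
    haveI : IsIso ((Over.forget X).map ((chartMap g a A w hw).app (op B))) :=
      inferInstanceAs (IsIso ((chartMap g a A w hw).app (op B)).left)
    haveI : IsIso ((chartMap g a A w hw).app (op B)) :=
      isIso_of_reflects_iso _ (Over.forget X)
    exact (((chartFam (R := R) A b).val M.val B).symm.bijective.comp
      (tr_iso_bijective M.val (asIso ((chartMap g a A w hw).app (op B))))).comp
      ((pullFam g a).val M.val B).bijective
  exact isLin_of_iso (asIso i₁ ≪≫ (asIso i₃).symm ≪≫ asIso i₂) (isLin_push R A (hM _ b))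

end Push

/-- Linear modules are quasi-coherent. -/
theorem isQuasicoherent_of_allLin (hflat : ∀ {X Y : Scheme.{u}} (f : X ⟶ Y), P f → Flat f) {S : Scheme.{u}}
    (N : BigSite.Mod (Scheme.precoverage P) S) (hN : AllLin N) : N.IsQuasicoherent := by
  have hp : ∀ U : S.affineOpens, Nonempty (N.over (Over.mk U.2.fromSpec)).Presentation := fun U => by
    haveI := isIso_pullToMVF (K := Scheme.precoverage P) U.2.fromSpec (𝟙 _) N
    obtain ⟨p⟩ := nonempty_presentation hflat ((BigSite.pullMod (Scheme.precoverage P) U.2.fromSpec).obj N)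
      (isLin_of_iso (asIso (pullToMVF (K := Scheme.precoverage P) U.2.fromSpec (𝟙 _) N)).symm (hN _ _))
    exact ⟨presentationOver (Over.mk U.2.fromSpec) p⟩
  refine SheafOfModules.QuasicoherentData.isQuasicoherent (M := N)
    { I := ULift.{u + 1} S.affineOpens
      X := fun U => Over.mk U.down.2.fromSpec
      coversTop := ?_
      presentation := fun U => (hp U.down).some }
  intro V
  let Z : S.affineOpens → Over S := fun U => Over.mk ((V.hom ⁻¹ᵁ U.1).ι ≫ V.hom)
  let g : ∀ U, Z U ⟶ V := fun U => Over.homMk (V.hom ⁻¹ᵁ U.1).ι rfl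
  refine (QuotSh.J (Scheme.precoverage P) S).superset_covering ?_
    (ofArrows_mem_J g (fun U => inferInstanceAs (IsOpenImmersion (V.hom ⁻¹ᵁ U.1).ι)) fun p => ?_)
  · rintro W f ⟨_, l, _, ⟨U⟩, rfl⟩
    refine ⟨⟨U⟩, ⟨l ≫ Over.homMk (IsOpenImmersion.lift U.2.fromSpec ((V.hom ⁻¹ᵁ U.1).ι ≫ V.hom) ?_)
      (IsOpenImmersion.lift_fac _ _ _)⟩⟩
    rintro _ ⟨y, rfl⟩
    exact (IsAffineOpen.range_fromSpec U.2).ge y.2
  · obtain ⟨_, ⟨U, hU, rfl⟩, hpU, -⟩ := S.isBasis_affineOpens.exists_subset_of_mem_open
      (Set.mem_univ (V.hom p)) isOpen_univ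
    refine ⟨⟨U, hU⟩, ⟨p, hpU⟩, rfl⟩

/-- Direct images of quasi-coherent modules along affine morphisms. -/
theorem isQuasicoherent_pushMod (hflat : ∀ {X Y : Scheme.{u}} (f : X ⟶ Y), P f → Flat f) {X S : Scheme.{u}}
    (g : X ⟶ S) [IsAffineHom g] (M : BigSite.Mod (Scheme.precoverage P) X) [M.IsQuasicoherent] :
    ((BigSite.pushMod (Scheme.precoverage P) g).obj M).IsQuasicoherent :=
  isQuasicoherent_of_allLin hflat _ (allLin_pushMod g M (allLin_of_isQuasicoherent hflat M))

end Groth.Agent.H13BigSite.Lin
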