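import Groth.Agent.H13BigSite.Lin.Descent
import Groth.Agent.H02CA.Adeq.Big.Sheafify
import Groth.Agent.H02CA.Adeq.Big.Glue

/-!
Quasi-coherent modules on big sites are linear at affine objects.
-/

set_option autoImplicit false
set_option linter.style.haveILetI false
set_option backward.isDefEq.respectTransparency false

universe v w u

open CategoryTheory Opposite Limits TensorProduct AlgebraicGeometry

noncomputable section

namespace Groth.Agent.H13BigSite.Lin

open Adeq Groth.Agent.H02CA.Adq

section

variable {K : Precoverage Scheme.{u}} [BigSite.OSh K] {S : Scheme.{u}}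

/-- Linear at every affine object, for presheaves. -/
def AllLinPre (P₀ : PresheafOfModules.{u + 1} (BigSite.ORing K S).obj) : Prop :=
  ∀ (R : CommRingCat.{u}) (a : Spec R ⟶ S), IsLin (FModPre K a P₀)

/-- Linear at every affine object. -/
def AllLin (M : BigSite.Mod K S) : Prop := AllLinPre M.val

theorem allLin_unit : AllLin (SheafOfModules.unit (BigSite.ORing K S)) := by
  intro R a
  rw [isLin_iff]
  intro B B' f
  letI := homAlgebra f
  let e : ∀ C : Alg R, (FModPre K a (SheafOfModules.unit (BigSite.ORing K S)).val).obj (pt C) →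
      (C : Type u) := fun C x => (Scheme.ΓSpecIso (CommRingCat.of C)).hom (ULift.down x)
  have he : ∀ (C : Alg R) (x : (FModPre K a (SheafOfModules.unit (BigSite.ORing K S)).val).obj (pt C)),
      toSect K a C (e C x) = x := by
    intro C x
    apply ULift.ext
    exact (Scheme.ΓSpecIso (CommRingCat.of C)).hom_inv_id_apply (ULift.down x)
  have he' : ∀ (C : Alg R) (c : C), e C (toSect K a C c) = c := fun C c =>
    (Scheme.ΓSpecIso (CommRingCat.of C)).inv_hom_id_apply c
  let one : ∀ C : Alg R, (FModPre K a (SheafOfModules.unit (BigSite.ORing K S)).val).obj (pt C) := fun C =>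
    toSect K a C 1
  have hg : ∀ (C : Alg R) (c : C), c • one C = toSect K a C c := fun C c => by
    change toSect K a C c * toSect K a C 1 = _
    rw [← map_mul, mul_one]
  have hone : mp (FModPre K a (SheafOfModules.unit (BigSite.ORing K S)).val) f (one B) = one B' := by
    change (BigSite.ORing K S).obj.map ((specOver a).map f.op).op (toSect K a B 1) = toSect K a B' 1
    rw [map_one, map_one, map_one]
  have key : ∀ (c : B') , bcL f _ (c ⊗ₜ one B) = toSect K a B' c := fun c => by
    rw [bcL_tmul, hone, hg]
  have hz : ∀ z : (B' : Type u) ⊗[(B : Type u)] (FModPre K a (SheafOfModules.unit (BigSite.ORing K S)).val).obj (pt B),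
      ∃ c : B', z = c ⊗ₜ one B := by
    intro z
    induction z using TensorProduct.induction_on with
    | zero => exact ⟨0, (TensorProduct.zero_tmul _ _).symm⟩
    | tmul c x =>
      refine ⟨e B x • c, ?_⟩
      rw [TensorProduct.smul_tmul, hg, he]
    | add x y hx hy =>
      obtain ⟨c, rfl⟩ := hx
      obtain ⟨d, rfl⟩ := hy
      exact ⟨c + d, (TensorProduct.add_tmul _ _ _).symm⟩
  refine ⟨fun z z' h => ?_, fun x => ⟨e B' x ⊗ₜ one B, by rw [key, he]⟩⟩
  obtain ⟨c, rfl⟩ := hz z
  obtain ⟨c', rfl⟩ := hz z'
  rw [key, key] at h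
  rw [← he' B' c, h, he']

end

variable {P : MorphismProperty Scheme.{u}} [GoodCov P] [BigSite.OSh (Scheme.precoverage P)] {S : Scheme.{u}}

/-- The sheafification of a linear presheaf is linear. -/
theorem allLin_shf (hflat : ∀ {X Y : Scheme.{u}} (f : X ⟶ Y), P f → Flat f)
    (P₀ : PresheafOfModules.{u + 1} (BigSite.ORing (Scheme.precoverage P) S).obj) (hP : AllLinPre P₀) :
    AllLin ((shf (Scheme.precoverage P) S).obj P₀) := by
  intro R a
  let φ : P₀ ⟶ ((shf (Scheme.precoverage P) S).obj P₀).val :=
    (PresheafOfModules.sheafificationAdjunction (𝟙 (BigSite.ORing (Scheme.precoverage P) S).obj)).unit.app P₀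
  haveI : Presheaf.IsLocallyInjective (QuotSh.J (Scheme.precoverage P) S)
      ((PresheafOfModules.toPresheaf _).map φ) :=
    inferInstanceAs (Presheaf.IsLocallyInjective (QuotSh.J (Scheme.precoverage P) S)
      (CategoryTheory.toSheafify (QuotSh.J (Scheme.precoverage P) S) P₀.presheaf))
  haveI : Presheaf.IsLocallySurjective (QuotSh.J (Scheme.precoverage P) S)
      ((PresheafOfModules.toPresheaf _).map φ) :=
    inferInstanceAs (Presheaf.IsLocallySurjective (QuotSh.J (Scheme.precoverage P) S)
      (CategoryTheory.toSheafify (QuotSh.J (Scheme.precoverage P) S) P₀.presheaf))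
  have hA : AllAdeqPre P₀ := fun R a => adequate_of_isLin (hP R a)
  have hiso : IsIso (FModPreMap (Scheme.precoverage P) a φ) :=
    isIso_of_bijective _ fun B => bijective_specOver φ hflat hA a B
  exact isLin_of_iso (@asIso _ _ _ _ _ hiso) (hP R a)

/-- Colimits of linear modules are linear. -/
theorem allLin_colimit (hflat : ∀ {X Y : Scheme.{u}} (f : X ⟶ Y), P f → Flat f) {J : Type (u + 1)}
    [SmallCategory J] (D : J ⥤ BigSite.Mod (Scheme.precoverage P) S)
    (hD : ∀ j, AllLin (D.obj j)) : AllLin (colimit D) := by
  let ε := (PresheafOfModules.sheafificationAdjunction (𝟙 (BigSite.ORing (Scheme.precoverage P) S).obj)).counit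
  let D' : J ⥤ PresheafOfModules.{u + 1} (BigSite.ORing (Scheme.precoverage P) S).obj :=
    D ⋙ (SheafOfModules.forget _ ⋙ PresheafOfModules.restrictScalars (𝟙 _))
  let e : D' ⋙ shf (Scheme.precoverage P) S ≅ D :=
    Functor.associator _ _ _ ≪≫ Functor.isoWhiskerLeft D (asIso ε) ≪≫ D.rightUnitor
  let i := preservesColimitIso (shf (Scheme.precoverage P) S) D' ≪≫ HasColimit.isoOfNatIso e
  have h : AllLin ((shf (Scheme.precoverage P) S).obj (colimit D')) :=
    allLin_shf hflat _ fun R a => isLin_of_iso (preservesColimitIso (toMVFPre (Scheme.precoverage P) a) D').symm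
      (isLin_of_isColimit (colimit.isColimit _) fun j => hD j R a)
  exact fun R a => isLin_of_iso ((toMVF (Scheme.precoverage P) a).mapIso i) (h R a)

/-- Cokernels of linear modules are linear. -/
theorem allLin_cokernel (hflat : ∀ {X Y : Scheme.{u}} (f : X ⟶ Y), P f → Flat f)
    {M N : BigSite.Mod (Scheme.precoverage P) S} (φ : M ⟶ N) (hM : AllLin M) (hN : AllLin N) :
    AllLin (cokernel φ) := by
  let G := SheafOfModules.forget (BigSite.ORing (Scheme.precoverage P) S) ⋙
    PresheafOfModules.restrictScalars (𝟙 _)
  let ε := (PresheafOfModules.sheafificationAdjunction (𝟙 (BigSite.ORing (Scheme.precoverage P) S).obj)).counit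
  let i := PreservesCokernel.iso (shf (Scheme.precoverage P) S) (G.map φ) ≪≫
      cokernel.mapIso _ _ (asIso (ε.app M)) (asIso (ε.app N)) (ε.naturality φ)
  have h : AllLin ((shf (Scheme.precoverage P) S).obj (cokernel (G.map φ))) := by
    refine allLin_shf hflat _ fun R a => ?_
    haveI : PreservesColimitsOfSize.{0, 0} (toMVFPre (Scheme.precoverage P) a) :=
      preservesColimitsOfSize_shrink.{0, u + 1, 0, u + 1} (toMVFPre (Scheme.precoverage P) a)
    refine isLin_of_iso (PreservesCokernel.iso (toMVFPre (Scheme.precoverage P) a) (G.map φ)).symm ?_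
    refine isLin_of_isColimit (colimit.isColimit _) fun j => ?_
    rcases j with _ | _
    exacts [hM R a, hN R a]
  exact fun R a => isLin_of_iso ((toMVF (Scheme.precoverage P) a).mapIso i) (h R a)

theorem allLin_free (hflat : ∀ {X Y : Scheme.{u}} (f : X ⟶ Y), P f → Flat f) (I : Type (u + 1)) :
    AllLin (SheafOfModules.free (R := BigSite.ORing (Scheme.precoverage P) S) I) :=
  allLin_colimit hflat (Discrete.functor fun _ : I => SheafOfModules.unit _) fun _ => allLin_unit

theorem allLin_of_presentation (hflat : ∀ {X Y : Scheme.{u}} (f : X ⟶ Y), P f → Flat f)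
    {M : BigSite.Mod (Scheme.precoverage P) S} (p : M.Presentation) : AllLin M := by
  have h := allLin_cokernel hflat
    ((SheafOfModules.freeHomEquiv _).symm p.relations.s ≫ kernel.ι p.generators.π)
    (allLin_free hflat _) (allLin_free (S := S) hflat _)
  let i := (colimit.isColimit _).coconePointUniqueUpToIso p.isColimit
  exact fun R a => isLin_of_iso ((toMVF (Scheme.precoverage P) a).mapIso i) (h R a)

section Slice

variable (U : Over S)

/-- Modules on the slice over an object and on the site of that scheme. -/
def slice : BigSite.Mod (Scheme.precoverage P) U.left ≌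
    SheafOfModules.{u + 1} ((BigSite.ORing (Scheme.precoverage P) S).over U) :=
  SheafOfModules.pushforwardPushforwardEquivalence (Over.iteratedSliceEquiv U)
    (S := (BigSite.ORing (Scheme.precoverage P) S).over U) (R := BigSite.ORing (Scheme.precoverage P) U.left)
    (𝟙 _) (𝟙 _)
    (by ext : 2; exact (BigSite.ORingAbs (Scheme.precoverage P)).1.map_id _)
    (by ext : 2; exact (BigSite.ORingAbs (Scheme.precoverage P)).1.map_id _)

/-- A presentation on the slice gives one on the scheme. -/
def presentationPull {M : BigSite.Mod (Scheme.precoverage P) S} (p : (M.over U).Presentation) :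
    ((BigSite.pullMod (Scheme.precoverage P) U.hom).obj M).Presentation :=
  p.map (slice U).inverse (Iso.refl _)

/-- A presentation on the scheme gives one on the slice. -/
def presentationOver {M : BigSite.Mod (Scheme.precoverage P) S}
    (p : ((BigSite.pullMod (Scheme.precoverage P) U.hom).obj M).Presentation) : (M.over U).Presentation :=
  (p.map (slice U).functor (Iso.refl _)).ofIsIso ((slice U).counitIso.app (M.over U)).hom

end Slice

/-- Quasi-coherent modules are linear at every affine object. -/
theorem allLin_of_isQuasicoherent (hflat : ∀ {X Y : Scheme.{u}} (f : X ⟶ Y), P f → Flat f)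
    (M : BigSite.Mod (Scheme.precoverage P) S) [hM : M.IsQuasicoherent] : AllLin M := by
  intro R a
  obtain ⟨q⟩ := hM.nonempty_quasicoherentData
  obtain ⟨n, R', i1, i2, hff, hmem, hcov⟩ := exists_affine_refine (R := R) hflat
    (Sv := Sieve.overEquiv (Over.mk a) (Sieve.ofObjects q.X (Over.mk a)))
    ((GrothendieckTopology.mem_over_iff _ _).1 (q.coversTop (Over.mk a)))
  have hl : ∀ j, IsLin ((Adeq.restr R (R' j)).obj (FModPre (Scheme.precoverage P) a M.val)) := by
    intro j
    obtain ⟨i, ⟨c⟩⟩ := (Sieve.overEquiv_iff (Sieve.ofObjects q.X (Over.mk a)) (algMap' R (R' j))).1 (hmem j)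
    haveI := isIso_restrToMVF (K := Scheme.precoverage P) R (R' j) a M.val
    refine isLin_of_iso (asIso (restrToMVF R (R' j) a M.val)).symm ?_
    have e : c.left ≫ (q.X i).hom = algMap' R (R' j) ≫ a := Over.w c
    rw [← e]
    haveI := isIso_pullToMVF (K := Scheme.precoverage P) (q.X i).hom (R := CommRingCat.of (R' j)) c.left M
    exact isLin_of_iso (asIso (pullToMVF (K := Scheme.precoverage P) (q.X i).hom (R := CommRingCat.of (R' j)) c.left M))
      (allLin_of_presentation hflat (presentationPull (q.X i) (q.presentation i)) _ _)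
  haveI : ∀ j, Module.Flat R (R' j) := fun j => by
    have h : Flat (algMap' R (R' j)) := hflat _ (((Scheme.ofArrows_mem_precoverage_iff P).1 hcov).2 j)
    exact RingHom.flat_algebraMap_iff.1 ((HasRingHomProperty.Spec_iff (P := @Flat)).1 h)
  have hF : adequate R ((toMVF (Scheme.precoverage P) a).obj M) :=
    adequate_of_family (fun j => (R' j : Type u)) _ (fun j => adequate_of_isLin (hl j))
      (glue_of_sheaf _ M a (Precoverage.generate_mem_toGrothendieck hcov))
  exact isLin_of_family hF R' hl

end Groth.Agent.H13BigSite.Lin
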